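import Mathlib.AlgebraicGeometry.Morphisms.FiniteType
import Mathlib.AlgebraicGeometry.Morphisms.Immersion

/-! # An immersion into an affine scheme only needs finitely many functions -/

set_option autoImplicit false
set_option linter.style.haveILetI false
set_option backward.isDefEq.respectTransparency false
set_option backward.isDefEq.respectTransparency.types false

universe u

open CategoryTheory CategoryTheory.Limits AlgebraicGeometry TopologicalSpace

namespace Groth.Agent.H8.AffineEmb.Alg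

/-- Finitely many numerators generate a finite type localised quotient. -/
theorem exists_numerators {B C A : Type u} [CommRing B] [CommRing C] [CommRing A] (σ : B →+* C)
    (ρ : C →+* A) (hft : (ρ.comp σ).FiniteType) (g : C)
    (hsurj : ∀ x : A, ∃ (c : C) (e : ℕ), x * ρ g ^ e = ρ c) :
    ∃ s : Finset C, g ∈ s ∧ ∀ R : Subring A, (∀ b, ρ (σ b) ∈ R) → (∀ c ∈ s, ρ c ∈ R) →
      (∃ i ∈ R, ρ g * i = 1) → R = ⊤ := by
  classical
  letI := (ρ.comp σ).toAlgebra
  obtain ⟨G, hG⟩ := (hft : Algebra.FiniteType B A).out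
  choose c e hc using hsurj
  refine ⟨insert g (G.image c), Finset.mem_insert_self _ _, fun R hB hs ⟨i, hi, hgi⟩ => ?_⟩
  let R' : Subalgebra B A := { R with algebraMap_mem' := hB }
  have hR' : R' = ⊤ := by
    refine top_le_iff.1 (hG ▸ Algebra.adjoin_le fun x hx => ?_)
    show x ∈ R
    have hx' : x = ρ (c x) * i ^ e x := by
      rw [← hc x, mul_assoc, ← mul_pow, hgi, one_pow, mul_one]
    rw [hx']
    exact R.mul_mem (hs _ (Finset.mem_insert_of_mem (Finset.mem_image_of_mem c hx)))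
      (R.pow_mem hi _)
  rw [eq_top_iff]
  intro x _
  exact (hR'.ge (Algebra.mem_top : x ∈ (⊤ : Subalgebra B A)) : x ∈ R')

/-- A basic open inside the biggest open in which an immersion is closed. -/
theorem basicOpen_facts {P X : Scheme.{u}} [IsAffine X] (h : P ⟶ X) [IsImmersion h] (r : Γ(X, ⊤))
    (hr : X.basicOpen r ≤ h.coborderRange) :
    IsAffineOpen (h ⁻¹ᵁ X.basicOpen r) ∧ Function.Surjective (h.app (X.basicOpen r)) := by
  let D := h.coborderRange
  let U' : D.toScheme.Opens := D.ι ⁻¹ᵁ X.basicOpen r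
  have hU : D.ι ''ᵁ U' = X.basicOpen r := by
    rw [Scheme.Hom.image_preimage_eq_opensRange_inf, Scheme.Opens.opensRange_ι, inf_eq_right.2 hr]
  have hb : IsAffineOpen (X.basicOpen r) := (isAffineOpen_top X).basicOpen r
  have hU' : IsAffineOpen U' := hb.preimage_of_isOpenImmersion D.ι (by
    rw [Scheme.Opens.opensRange_ι]; exact hr)
  constructor
  · have := hU'.preimage h.liftCoborder
    rwa [Scheme.Hom.liftCoborder_preimage, hU] at this
  · have hs := h.liftCoborder.app_surjective U' hU'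
    rw [liftCoborder_app] at hs
    have : Function.Surjective (h.app (D.ι ''ᵁ U')) := by
      intro x
      obtain ⟨y, hy⟩ := hs (P.presheaf.map (eqToHom <| h.liftCoborder_preimage U').op x)
      refine ⟨y, (ConcreteCategory.bijective_of_isIso
        (P.presheaf.map (eqToHom <| h.liftCoborder_preimage U').op)).1 hy⟩
    rwa [hU] at this

/-- An immersion into an affine scheme stays one after keeping enough finitely many functions. -/
theorem exists_finset {P X B : Scheme.{u}} [IsAffine X] [IsAffine B] [CompactSpace P] (h : P ⟶ X)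
    [IsImmersion h] (σ : X ⟶ B) [LocallyOfFiniteType (h ≫ σ)] :
    ∃ s : Finset Γ(X, ⊤), ∀ (X' : Scheme.{u}) (_ : IsAffine X') (u' : X ⟶ X') (v : X' ⟶ B),
      u' ≫ v = σ → (∀ c ∈ s, c ∈ Set.range u'.appTop) → IsImmersion (h ≫ u') := by
  classical
  have hloc : ∀ x : P, ∃ r : Γ(X, ⊤), X.basicOpen r ≤ h.coborderRange ∧ h x ∈ X.basicOpen r :=
    fun x => (isAffineOpen_top X).exists_basicOpen_le
      ⟨h x, subset_coborder (Set.mem_range_self x)⟩ trivial
  choose r hrD hrx using hloc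
  obtain ⟨t, ht⟩ := isCompact_univ.elim_finite_subcover
    (fun x : P => ((h ⁻¹ᵁ X.basicOpen (r x) : P.Opens) : Set P)) (fun x => (h ⁻¹ᵁ _).2)
    (fun x _ => Set.mem_iUnion.2 ⟨x, hrx x⟩)
  have hnum : ∀ x : P, ∃ s : Finset Γ(X, ⊤), r x ∈ s ∧
      ∀ R : Subring Γ(P, h ⁻¹ᵁ X.basicOpen (r x)),
        (∀ b, (h.appLE ⊤ _ le_top).hom (σ.appTop b) ∈ R) →
        (∀ c ∈ s, (h.appLE ⊤ _ le_top).hom c ∈ R) →
        (∃ i ∈ R, (h.appLE ⊤ _ le_top).hom (r x) * i = 1) → R = ⊤ := fun x => by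
    refine exists_numerators σ.appTop.hom (h.appLE ⊤ _ le_top).hom ?_ (r x) fun y => ?_
    · have := (h ≫ σ).finiteType_appLE (isAffineOpen_top B) (basicOpen_facts h (r x) (hrD x)).1 le_top
      rw [Scheme.Hom.comp_appLE] at this
      exact this
    · obtain ⟨z, rfl⟩ := (basicOpen_facts h (r x) (hrD x)).2 y
      haveI := isLocalization_away_of_isAffine (r x)
      obtain ⟨e, c, hc⟩ := IsLocalization.Away.surj (r x) z
      refine ⟨c, e, ?_⟩
      have hl : ∀ a, (h.appLE ⊤ (h ⁻¹ᵁ X.basicOpen (r x)) le_top).hom a =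
          h.app _ (algebraMap Γ(X, ⊤) Γ(X, X.basicOpen (r x)) a) := fun a => by
        rw [← Scheme.Hom.map_appLE h le_rfl (homOfLE le_top).op, ← Scheme.Hom.app_eq_appLE]
        rfl
      rw [hl, hl, ← hc, map_mul, map_pow]
  choose s hs hs' using hnum
  refine ⟨t.biUnion s, fun X' _ u' v huv hu => ?_⟩
  let g := h ≫ u'
  have hmem : ∀ x ∈ t, ∀ c ∈ s x, ∃ c', u'.appTop c' = c :=
    fun x hx c hc => hu c (Finset.mem_biUnion.2 ⟨x, hx, hc⟩)
  choose r' hr' using fun x : t => hmem x.1 x.2 (r x.1) (hs x.1)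
  have hpre : ∀ x : t, g ⁻¹ᵁ X'.basicOpen (r' x) = h ⁻¹ᵁ X.basicOpen (r x.1) := fun x => by
    rw [Scheme.Hom.comp_preimage, Scheme.Hom.preimage_basicOpen]
    show h ⁻¹ᵁ X.basicOpen (u'.appTop (r' x)) = _
    rw [hr']
  have hclosed : ∀ x : t, IsClosedImmersion (g ∣_ X'.basicOpen (r' x)) := fun x => by
    haveI : IsAffine (X'.basicOpen (r' x)).toScheme := (isAffineOpen_top X').basicOpen _
    have ha : IsAffineOpen (g ⁻¹ᵁ X'.basicOpen (r' x)) := by
      rw [hpre]; exact (basicOpen_facts h (r x.1) (hrD x.1)).1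
    haveI : IsAffine (g ⁻¹ᵁ X'.basicOpen (r' x)).toScheme := ha
    refine IsClosedImmersion.of_surjective_of_isAffine _ ?_
    let ψ := (g.appLE (X'.basicOpen (r' x)) (h ⁻¹ᵁ X.basicOpen (r x.1)) (hpre x).ge).hom
    have hρ : ∀ a, ψ (X'.presheaf.map (homOfLE le_top).op a) =
        (h.appLE ⊤ _ le_top).hom (u'.appTop a) := fun a => by
      show (X'.presheaf.map (homOfLE le_top).op ≫ g.appLE _ _ _) a = _
      rw [Scheme.Hom.map_appLE, Scheme.Hom.comp_appLE]
      rfl
    have hψ : ψ.range = ⊤ := by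
      refine hs' x.1 ψ.range (fun b => ?_) (fun c hc => ?_) ?_
      · refine ⟨X'.presheaf.map (homOfLE le_top).op (v.appTop b), ?_⟩
        rw [hρ, ← huv]
        rfl
      · obtain ⟨c', hc'⟩ := hmem x.1 x.2 c hc
        exact ⟨_, (hρ c').trans (by rw [hc'])⟩
      · obtain ⟨i, hi⟩ := (RingedSpace.isUnit_res_basicOpen
          X'.toLocallyRingedSpace.toRingedSpace (r' x)).exists_right_inv
        refine ⟨ψ i, ⟨i, rfl⟩, ?_⟩
        have h1 : ψ (X'.presheaf.map (homOfLE le_top).op (r' x)) * ψ i = 1 := by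
          rw [← map_mul]
          exact (congrArg ψ hi).trans (map_one ψ)
        rw [hρ (r' x)] at h1
        exact (congrArg (fun a => (h.appLE ⊤ (h ⁻¹ᵁ X.basicOpen (r x.1)) le_top).hom a * ψ i)
          (hr' x).symm).trans h1
    have hsurj : Function.Surjective (g.app (X'.basicOpen (r' x))) := by
      intro y
      obtain ⟨w, hw⟩ := RingHom.range_eq_top.1 hψ (P.presheaf.map (eqToHom (hpre x).symm).op y)
      refine ⟨w, (ConcreteCategory.bijective_of_isIso
        (P.presheaf.map (eqToHom (hpre x).symm).op)).1 (Eq.trans ?_ hw)⟩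
      rfl
    rw [morphismRestrict_appTop]
    intro y
    have hbij := ConcreteCategory.bijective_of_isIso
      (f := (P.presheaf.map (eqToHom (image_morphismRestrict_preimage g (X'.basicOpen (r' x)) ⊤)).op))
    obtain ⟨z, rfl⟩ := hbij.2 y
    obtain ⟨w, rfl⟩ := (by rw [Scheme.Opens.ι_image_top]; exact hsurj :
      Function.Surjective (g.app ((X'.basicOpen (r' x)).ι ''ᵁ ⊤))) z
    exact ⟨w, rfl⟩
  let W : X'.Opens := ⨆ x : t, X'.basicOpen (r' x)
  have hW : IsClosedImmersion (g ∣_ W) := by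
    refine IsZariskiLocalAtTarget.of_iSup_eq_top (P := @IsClosedImmersion)
      (fun x : t => W.ι ⁻¹ᵁ X'.basicOpen (r' x)) ?_ fun x => ?_
    · rw [eq_top_iff]
      rintro y -
      obtain ⟨x, hx⟩ := Opens.mem_iSup.1 y.2
      exact Opens.mem_iSup.2 ⟨x, hx⟩
    · rw [MorphismProperty.arrow_mk_iso_iff @IsClosedImmersion
        (morphismRestrictRestrict g W (W.ι ⁻¹ᵁ X'.basicOpen (r' x)))]
      have e : W.ι ''ᵁ W.ι ⁻¹ᵁ X'.basicOpen (r' x) = X'.basicOpen (r' x) := by
        rw [Scheme.Hom.image_preimage_eq_opensRange_inf, Scheme.Opens.opensRange_ι,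
          inf_eq_right.2 (le_iSup (fun x : t => X'.basicOpen (r' x)) x)]
      rw [e]
      exact hclosed x
  have htop : g ⁻¹ᵁ W = ⊤ := by
    rw [eq_top_iff]
    intro p _
    obtain ⟨x, hx, hp⟩ := Set.mem_iUnion₂.1 (ht (Set.mem_univ p))
    show g p ∈ W
    refine Opens.mem_iSup.2 ⟨⟨x, hx⟩, ?_⟩
    show p ∈ g ⁻¹ᵁ X'.basicOpen (r' ⟨x, hx⟩)
    rw [hpre]
    exact hp
  haveI : IsIso (g ⁻¹ᵁ W).ι := by
    rw [htop, ← Scheme.topIso_hom]; infer_instance
  have heq : inv (g ⁻¹ᵁ W).ι ≫ g ∣_ W ≫ W.ι = g := by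
    rw [morphismRestrict_ι, IsIso.inv_hom_id_assoc]
  show IsImmersion g
  rw [← heq]
  infer_instance

end Groth.Agent.H8.AffineEmb.Alg
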