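import Groth.Agent.H8.AffineEmb.Main
import Groth.Agent.H56.QFDense2
import Groth.Agent.Lib.SpHomog.Scattered
import Groth.Agent.Lib.AlgSpDecent.CodimOneSp
import Groth.Agent.Lib.AlgSpDecent.OnePoint
import Groth.Agent.Lib.AlgSpDecent.Restrict
import Mathlib.AlgebraicGeometry.ZariskisMainTheorem

/-! # A dense open of a space of finite presentation embeds in a relative affine space -/

set_option autoImplicit false
set_option linter.style.haveILetI false
set_option backward.isDefEq.respectTransparency false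
set_option backward.isDefEq.respectTransparency.types false

universe u

open CategoryTheory CategoryTheory.Limits AlgebraicGeometry TopologicalSpace
open AlgSp (Sp yon RepWith IsAlgSpace Points)
open Groth.Agent.Lib Groth.Agent.Lib.AlgSpace

namespace Groth.Agent.H8.AffineEmb.Dense

variable {S : Scheme.{u}}

/-- A scheme with Noetherian underlying space has a dense affine open inside any dense open. -/
theorem exists_dense_affine {T : Scheme.{u}} [NoetherianSpace ↥T] (O : T.Opens)
    (hO : Dense (O : Set T)) : ∃ W : T.Opens, IsAffineOpen W ∧ W ≤ O ∧ Dense (W : Set T) := by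
  obtain ⟨D, hD, hA⟩ := SpHomog.exists_dense_afinite T
  let E : T.Opens := D ⊓ O
  have hE : Dense (E : Set T) := hD.inter_of_isOpen_left hO D.2
  let gen : irreducibleComponents T → T := fun Z => IsIrreducible.genericPoint Z.2.1
  have hgen : ∀ Z : irreducibleComponents T, IsGenericPoint (gen Z) Z.1 := fun Z =>
    Z.2.1.isGenericPoint_genericPoint (isClosed_of_mem_irreducibleComponents _ Z.2)
  haveI : Finite (irreducibleComponents T) := (NoetherianSpace.finite_irreducibleComponents).to_subtype
  have hmem : ∀ Z, gen Z ∈ E := fun Z => by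
    refine (hgen Z).mem_open_set_iff E.2 |>.2 ?_
    obtain ⟨o, ho, hne, hoZ⟩ := NoetherianSpace.exists_isOpen_nonempty_subset_irreducibleComponent Z.1 Z.2
    obtain ⟨y, hy, hyE⟩ := hE.inter_open_nonempty o ho hne
    exact ⟨y, hoZ hy, hyE⟩
  have hA' : SpHomog.AFinite E.toScheme := by
    have := hA.of_isOpenImmersion (T.homOfLE (inf_le_left : E ≤ D))
    exact this
  obtain ⟨W, hW, hsub⟩ := hA' (Set.range fun Z => (⟨gen Z, hmem Z⟩ : E)) (Set.finite_range _)
  refine ⟨E.ι ''ᵁ W, (E.ι.isAffineOpen_iff_of_isOpenImmersion).2 hW, ?_, fun x => ?_⟩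
  · rintro _ ⟨y, -, rfl⟩
    exact (y.2 : y.1 ∈ D ⊓ O).2
  · let Z : irreducibleComponents T :=
      ⟨irreducibleComponent x, irreducibleComponent_mem_irreducibleComponents x⟩
    refine closure_mono (s := {gen Z}) ?_ ((hgen Z).specializes mem_irreducibleComponent).mem_closure
    rintro _ rfl
    exact ⟨⟨gen Z, hmem Z⟩, hsub ⟨Z, rfl⟩, rfl⟩

/-- An affine chart of a space locally of finite type over a locally Noetherian space is locally
Noetherian. -/
theorem isLocallyNoetherian_of_locP {X Y : Sp S} (hX : IsAlgSpace X) (hY : IsAlgSpace Y)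
    (hN : AlgSp.IsLocNoethSp X) {f : Y ⟶ X} (hf : AlgSp.LocP @LocallyOfFiniteType f) {U : Over S}
    {a : (yon S).obj U ⟶ Y} (ha : RepWith @Etale a) : IsLocallyNoetherian U.left := by
  obtain ⟨V, b, hb, hbs⟩ := hX.atlas
  haveI := AlgSpDecent.CodimOneSp.isLocallyNoetherian_chart hN hb
  obtain ⟨R, p, q, sq⟩ := exists_isPullback_yon hX.diag (a ≫ f) b
  have hl : AlgSp.LocP @LocallyOfFiniteType (a ≫ f) :=
    AlgSpMor.LocP.locP_comp SourceDescent.Scheme.locallyOfFiniteType (IsAlgSpace.yon_obj U) hY hX
      (AlgSpMor.LocP.locP_of_repWith SourceDescent.Scheme.locallyOfFiniteType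
        (repWith_mono ha fun _ _ g (_ : Etale g) ↦ (inferInstance : LocallyOfFiniteType g))) hf
  haveI : LocallyOfFiniteType q.left := repWith_property
    (AlgSpMor.LocP.repWith_of_locP SourceDescent.Scheme.locallyOfFiniteType hX
      (representable_from_yon hX.diag _) hl) sq
  haveI : IsLocallyNoetherian R.left := LocallyOfFiniteType.isLocallyNoetherian q.left
  haveI : Etale p.left := repWith_property hb sq.flip
  haveI : Surjective p.left := repWith_property hbs sq.flip
  exact AlgSpDecent.OnePoint.isLocallyNoetherian_of_flat_surjective p.left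

/-- A dense open embeds into a relative affine space. -/
theorem exists_dense_immersion [QuasiSeparatedSpace ↥S] {X Y : Sp S} (hX : IsAlgSpace X)
    (hY : IsAlgSpace Y) (hXc : AlgSp.IsQuasiCompactSp X) (hXs : AlgSp.IsQuasiSeparatedSp X)
    (hN : AlgSp.IsLocNoethSp X) {f : Y ⟶ X} (hf : AlgSp.IsFinitePresentationMor f)
    {G : Over S} {m : (yon S).obj G ⟶ Y} (hm : RepWith @IsOpenImmersion m)
    (hd : _root_.Dense (Set.range (Points.ofPt m))) :
    ∃ (W : Over S) (j : (yon S).obj W ⟶ Y) (n : ℕ)
      (i : (yon S).obj W ⟶ X ⨯ (yon S).obj (Over.mk (𝔸(ULift.{u} (Fin n); S) ↘ S))),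
      RepWith @IsOpenImmersion j ∧ _root_.Dense (Set.range (Points.map j)) ∧
        i ≫ prod.fst = j ≫ f ∧ RepWith @IsImmersion i := by
  haveI := AlgSpMor.QC.compactSpace_points hXc
  obtain ⟨V, b, hV, hb, hbs⟩ := AlgSpMor.QC.exists_affine_atlas hX
  haveI := hV
  haveI : CompactSpace (Points Y) := by
    haveI : CompactSpace ↥V.left := inferInstance
    haveI := AlgSpMor.QC.compactSpace_of_isQuasiCompactMor hf.2.1 (IsPullback.of_hasPullback f b)
    exact AlgSpMor.QC.compactSpace_of_surjective
      (AlgSpMor.QC.surjective_of_isPullback' (IsPullback.of_hasPullback f b) (surjective_map hbs))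
  have hfl : AlgSp.LocP @LocallyOfFiniteType f := fun U' V' a' b' m' ha hb' e => by
    haveI : LocallyOfFinitePresentation m'.left := hf.1 a' b' m' ha hb' e
    infer_instance
  obtain ⟨U₀, a, hU₀, ha, has⟩ := AlgSpMor.QC.exists_affine_atlas hY
  haveI := hU₀
  haveI := isLocallyNoetherian_of_locP hX hY hN hfl ha
  haveI : CompactSpace ↥U₀.left := inferInstance
  haveI : IsNoetherian U₀.left := {}
  haveI : NoetherianSpace (Points Y) :=
    noetherianSpace_of_surjective (Points.ofPt a) (Points.continuous_ofPt a) (surjective_ofPt has)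
  have hmo : Topology.IsOpenEmbedding (Points.ofPt m) := by
    have h := (isOpenEmbedding_map hm).comp (Points.schemeHomeo G).isOpenEmbedding
    rw [show Points.ofPt m = Points.map m ∘ Points.schemeHomeo G from
      funext fun t => (Points.ofPt_eq_map_ofScheme m t)]
    exact h
  haveI : NoetherianSpace ↥G.left := hmo.isInducing.noetherianSpace
  obtain ⟨W₁, hW₁, -, hW₁d⟩ := exists_dense_affine (⊤ : G.left.Opens) (by simp)
  let U₁ : Over S := AlgSpMor.Topo.opensOver W₁
  let m₁ : (yon S).obj U₁ ⟶ Y := (yon S).map (AlgSpMor.Topo.opensOverι W₁) ≫ m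
  haveI : IsAffine U₁.left := hW₁
  obtain ⟨R, p, q, sq⟩ := exists_isPullback_yon hX.diag (m₁ ≫ f) b
  haveI : Etale p.left := repWith_property hb sq.flip
  haveI : QuasiCompact (Limits.prod.lift p q).left :=
    repWith_property hXs (isPullback_diag_yonProd sq)
  haveI : QuasiCompact V.hom := quasiCompact_of_compactSpace V.hom
  haveI : QuasiCompact (Limits.prod.fst : U₁ ⨯ V ⟶ U₁).left := by
    rw [← Over.prodLeftIsoPullback_hom_fst]
    infer_instance
  haveI : QuasiCompact p.left := by
    rw [show p.left = (Limits.prod.lift p q).left ≫ (Limits.prod.fst : U₁ ⨯ V ⟶ U₁).left by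
      rw [← Over.comp_left, prod.lift_fst]]
    infer_instance
  obtain ⟨O, hO, hfin⟩ := Groth.Agent.H56.QFDense.exists_dense_isFinite p.left
  haveI : NoetherianSpace ↥U₁.left := inferInstanceAs (NoetherianSpace ↥(W₁ : Set G.left))
  obtain ⟨W₂, hW₂, hW₂O, hW₂d⟩ := exists_dense_affine O hO
  let U : Over S := AlgSpMor.Topo.opensOver W₂
  let ι : U ⟶ U₁ := AlgSpMor.Topo.opensOverι W₂
  haveI : IsAffine U.left := hW₂
  have hι : RepWith @IsOpenImmersion ((yon S).map ι) :=
    (AlgSp.repWith_yon_map_iff _ _).2 (inferInstanceAs (IsOpenImmersion W₂.ι))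
  have hm₁ : RepWith @IsOpenImmersion m₁ := repWith_comp
    ((AlgSp.repWith_yon_map_iff _ _).2 (inferInstanceAs (IsOpenImmersion W₁.ι))) hm
  let j : (yon S).obj U ⟶ Y := (yon S).map ι ≫ m₁
  have hj : RepWith @IsOpenImmersion j := repWith_comp hι hm₁
  have hpair : ∀ (R' : Over S) (p' : R' ⟶ U) (q' : R' ⟶ V),
      IsPullback ((yon S).map p') ((yon S).map q') (j ≫ f) b →
      IsImmersion (Limits.prod.lift p' q').left := by
    intro R' p' q' sq'
    have sqb : IsPullback ((yon S).map p') (sq.lift ((yon S).map p' ≫ (yon S).map ι) ((yon S).map q')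
        (by rw [Category.assoc, ← sq'.w]; simp [j])) ((yon S).map ι) ((yon S).map p) :=
      (IsPullback.of_right (h₁₂ := (yon S).map q) (v₁₃ := b) (h₂₂ := m₁ ≫ f) (v₁₂ := (yon S).map p)
        (h₁₁ := sq.lift ((yon S).map p' ≫ (yon S).map ι) ((yon S).map q')
          (by rw [Category.assoc, ← sq'.w]; simp [j])) (h₂₁ := (yon S).map ι)
        (by rw [sq.lift_snd]; simpa [j] using sq'.flip)
        (sq.lift_fst _ _ _) sq.flip).flip
    obtain ⟨l, hl⟩ := (yon S).map_surjective (sq.lift ((yon S).map p' ≫ (yon S).map ι) ((yon S).map q')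
        (by rw [Category.assoc, ← sq'.w]; simp [j]))
    rw [← hl] at sqb
    haveI : IsFinite (p.left ∣_ W₂) := AlgSpDecent.Restrict.isFinite_restrict_mono p.left hW₂O
    haveI : IsFinite p'.left := by
      have h1 : IsPullback p'.left l.left W₂.ι p.left :=
        (sqb.of_map (F := yon S) ((sqb.w |> fun h => (yon S).map_injective (by simpa using h)))).map
          (Over.forget S)
      have h2 := (isPullback_morphismRestrict p.left W₂)
      have h3 : (h1.isoIsPullback _ _ h2).hom ≫ (p.left ∣_ W₂) = p'.left :=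
        h1.isoIsPullback_hom_fst _ _ h2
      rw [← h3]
      exact (MorphismProperty.cancel_left_of_respectsIso @IsFinite _ _).2 inferInstance
    haveI : IsSeparated (Limits.prod.fst : U ⨯ V ⟶ U).left := by
      rw [← Over.prodLeftIsoPullback_hom_fst]
      haveI : IsSeparated V.hom := inferInstance
      infer_instance
    haveI : IsFinite ((Limits.prod.lift p' q').left ≫ (Limits.prod.fst : U ⨯ V ⟶ U).left) := by
      rw [← Over.comp_left, prod.lift_fst]; infer_instance
    haveI : IsFinite (Limits.prod.lift p' q').left :=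
      IsFinite.of_comp _ (Limits.prod.fst : U ⨯ V ⟶ U).left
    haveI : Mono (Limits.prod.lift p' q').left :=
      repWith_property (repWith_diag_monomorphisms hX.diag) (isPullback_diag_yonProd sq')
    haveI : IsClosedImmersion (Limits.prod.lift p' q').left :=
      (IsClosedImmersion.iff_isProper_and_mono _).2 ⟨inferInstance, inferInstance⟩
    infer_instance
  obtain ⟨n, i, hi, hii⟩ := Main.exists_immersion_of_chart hX hXs (j ≫ f)
    (AlgSpMor.LocP.locP_comp SourceDescent.Scheme.locallyOfFiniteType (IsAlgSpace.yon_obj U) hY hX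
      (AlgSpMor.LocP.locP_of_repWith SourceDescent.Scheme.locallyOfFiniteType
        (repWith_mono hj fun _ _ g (_ : IsOpenImmersion g) ↦ (inferInstance : LocallyOfFiniteType g))) hfl)
    b hb (fun x _ => surjective_ofPt hbs x) hpair
  refine ⟨U, j, n, i, hj, ?_, hi, hii⟩
  have hr : ∀ {T : Over S} (g : (yon S).obj T ⟶ Y),
      Set.range (Points.map g) = Set.range (Points.ofPt g) := fun {T} g => by
    rw [show Points.ofPt g = Points.map g ∘ Points.schemeHomeo T from
      funext fun t => Points.ofPt_eq_map_ofScheme g t, (Points.schemeHomeo T).surjective.range_comp]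
  rw [hr]
  have e : Set.range (Points.ofPt j) = Points.ofPt m '' ((fun z => W₁.ι z) '' (W₂ : Set U₁.left)) := by
    ext y
    constructor
    · rintro ⟨t, rfl⟩
      exact ⟨_, ⟨_, t.2, rfl⟩, by simp only [j, m₁, ofPt_yon_map_comp]; rfl⟩
    · rintro ⟨_, ⟨z, hz, rfl⟩, rfl⟩
      exact ⟨⟨z, hz⟩, by simp only [j, m₁, ofPt_yon_map_comp]; rfl⟩
  rw [e]
  have hd₁ : _root_.Dense ((fun z => W₁.ι z) '' (W₂ : Set U₁.left)) := by
    refine fun x => closure_minimal ?_ isClosed_closure (hW₁d x)
    intro z hz
    exact image_closure_subset_closure_image W₁.ι.continuous ⟨⟨z, hz⟩, hW₂d _, rfl⟩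
  exact fun y => closure_minimal (by
    rintro _ ⟨t, rfl⟩
    exact image_closure_subset_closure_image hmo.continuous ⟨t, hd₁ t, rfl⟩) isClosed_closure (hd y)

end Groth.Agent.H8.AffineEmb.Dense
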