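import Groth.Agent.H8.AffineEmb.Alg
import Mathlib.AlgebraicGeometry.AffineSpace
import Mathlib.AlgebraicGeometry.Morphisms.Affine

/-! # An immersion into a product with an affine scheme is one into a product with an affine space -/

set_option autoImplicit false
set_option linter.style.haveILetI false
set_option backward.isDefEq.respectTransparency false
set_option backward.isDefEq.respectTransparency.types false

universe u

open CategoryTheory CategoryTheory.Limits AlgebraicGeometry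

namespace Groth.Agent.H8.AffineEmb.Gen

/-- The functions on a product of affine schemes are generated by those of the factors. -/
theorem closure_eq_top {U V W X : Scheme.{u}} [IsAffine U] [IsAffine V] [IsAffine X]
    (t₁ : U ⟶ W) (t₂ : V ⟶ W) (hW : ∀ {Z : Scheme.{u}} (a b : Z ⟶ W), a = b) {p : X ⟶ U}
    {q : X ⟶ V} (sq : IsPullback p q t₁ t₂) :
    Subring.closure (Set.range p.appTop ∪ Set.range q.appTop) = ⊤ := by
  let R : Subring Γ(X, ⊤) := Subring.closure (Set.range p.appTop ∪ Set.range q.appTop)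
  let pR : Γ(U, ⊤) →+* R := p.appTop.hom.codRestrict R
    fun x => Subring.subset_closure (Or.inl ⟨x, rfl⟩)
  let qR : Γ(V, ⊤) →+* R := q.appTop.hom.codRestrict R
    fun x => Subring.subset_closure (Or.inr ⟨x, rfl⟩)
  let u : X ⟶ Spec (CommRingCat.of R) := X.toSpecΓ ≫ Spec.map (CommRingCat.ofHom R.subtype)
  let w : Spec (CommRingCat.of R) ⟶ X :=
    sq.lift (Spec.map (CommRingCat.ofHom pR) ≫ U.isoSpec.inv)
      (Spec.map (CommRingCat.ofHom qR) ≫ V.isoSpec.inv) (hW _ _)
  have hp : u ≫ Spec.map (CommRingCat.ofHom pR) ≫ U.isoSpec.inv = p := by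
    rw [← Category.assoc, Iso.comp_inv_eq, Scheme.isoSpec_hom, Scheme.toSpecΓ_naturality,
      Category.assoc, ← Spec.map_comp]
    rfl
  have hq : u ≫ Spec.map (CommRingCat.ofHom qR) ≫ V.isoSpec.inv = q := by
    rw [← Category.assoc, Iso.comp_inv_eq, Scheme.isoSpec_hom, Scheme.toSpecΓ_naturality,
      Category.assoc, ← Spec.map_comp]
    rfl
  have huw : u ≫ w = 𝟙 X := sq.hom_ext (by rw [Category.assoc, sq.lift_fst, hp, Category.id_comp])
    (by rw [Category.assoc, sq.lift_snd, hq, Category.id_comp])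
  rw [eq_top_iff]
  intro x _
  have hx : u.appTop (w.appTop x) = x := by
    have := congrArg (fun f : X ⟶ X => f.appTop) huw
    rw [Scheme.Hom.comp_appTop, Scheme.Hom.id_appTop] at this
    exact congrArg (fun f : Γ(X, ⊤) ⟶ Γ(X, ⊤) => f x) this
  have hu : ∀ z, u.appTop z = ((Scheme.ΓSpecIso (CommRingCat.of R)).hom z).1 := fun z => by
    have h1 : u.appTop = (Scheme.ΓSpecIso (CommRingCat.of R)).hom ≫ CommRingCat.ofHom R.subtype := by
      rw [Scheme.Hom.comp_appTop, Scheme.toSpecΓ_appTop, Scheme.ΓSpecIso_naturality]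
    rw [h1]; rfl
  rw [← hx, hu]
  exact SetLike.coe_mem _

/-- An element of a subring generated by two images only needs finitely many generators of the
first image. -/
theorem exists_finset_mem {A C : Type u} [CommRing A] [CommRing C] (f : A → C) (K : Set C) {c : C}
    (h : c ∈ Subring.closure (Set.range f ∪ K)) :
    ∃ F : Finset A, c ∈ Subring.closure (f '' (F : Set A) ∪ K) := by
  classical
  have hmono : ∀ F F' : Finset A, Subring.closure (f '' (F : Set A) ∪ K) ≤
      Subring.closure (f '' ((F ∪ F' : Finset A) : Set A) ∪ K) ∧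
      Subring.closure (f '' (F' : Set A) ∪ K) ≤
      Subring.closure (f '' ((F ∪ F' : Finset A) : Set A) ∪ K) := fun F F' =>
    ⟨Subring.closure_mono (Set.union_subset_union_left K (Set.image_mono (by simp))),
      Subring.closure_mono (Set.union_subset_union_left K (Set.image_mono (by simp)))⟩
  refine Subring.closure_induction (p := fun x _ => ∃ F : Finset A,
    x ∈ Subring.closure (f '' (F : Set A) ∪ K)) ?_ ?_ ?_ ?_ ?_ ?_ h
  · rintro x (⟨a, rfl⟩ | hx)
    · exact ⟨{a}, Subring.subset_closure (Or.inl ⟨a, by simp, rfl⟩)⟩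
    · exact ⟨∅, Subring.subset_closure (Or.inr hx)⟩
  · exact ⟨∅, Subring.zero_mem _⟩
  · exact ⟨∅, Subring.one_mem _⟩
  · rintro x y _ _ ⟨F, hF⟩ ⟨F', hF'⟩
    exact ⟨F ∪ F', Subring.add_mem _ ((hmono F F').1 hF) ((hmono F F').2 hF')⟩
  · rintro x _ ⟨F, hF⟩
    exact ⟨F, Subring.neg_mem _ hF⟩
  · rintro x y _ _ ⟨F, hF⟩ ⟨F', hF'⟩
    exact ⟨F ∪ F', Subring.mul_mem _ ((hmono F F').1 hF) ((hmono F F').2 hF')⟩

open MvPolynomial in
/-- An immersion into `U ×_S V` stays one in `V ×_S 𝔸ⁿ_S` for suitable functions on `U`. -/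
theorem exists_functions {S U V P : Scheme.{u}} [IsAffine U] [IsAffine V] [CompactSpace P]
    (uS : U ⟶ S) (vS : V ⟶ S) (p : P ⟶ U) (q : P ⟶ V) (w : p ≫ uS = q ≫ vS)
    [IsImmersion (pullback.lift p q w)] [LocallyOfFiniteType q] :
    ∃ (n : ℕ) (φ : ULift.{u} (Fin n) → Γ(U, ⊤)), ∀ (T : Scheme.{u}) (tV : T ⟶ V)
      (tA : T ⟶ 𝔸(ULift.{u} (Fin n); S)) (e : P ⟶ T), e ≫ tV = q →
        e ≫ tA = p ≫ AffineSpace.homOfVector uS φ → IsImmersion e := by
  classical
  let t := terminal.from S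
  let X : Scheme.{u} := pullback (uS ≫ t) (vS ≫ t)
  haveI : IsAffine (⊤_ Scheme.{u}) := inferInstance
  haveI : IsAffine X := inferInstance
  let h : P ⟶ X := pullback.lift p q w ≫ pullback.mapDesc uS vS t
  haveI : IsImmersion h := inferInstance
  have hh1 : h ≫ pullback.fst _ _ = p := by simp [h, pullback.mapDesc, pullback.map]
  have hh2 : h ≫ pullback.snd _ _ = q := by simp [h, pullback.mapDesc, pullback.map]
  haveI : LocallyOfFiniteType (h ≫ (pullback.snd _ _ : X ⟶ V)) := by rw [hh2]; infer_instance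
  obtain ⟨s, hs⟩ := Alg.exists_finset h (pullback.snd _ _ : X ⟶ V)
  have hgen : ∀ c : Γ(X, ⊤), ∃ F : Finset Γ(U, ⊤),
      c ∈ Subring.closure ((pullback.fst _ _ : X ⟶ U).appTop '' (F : Set Γ(U, ⊤)) ∪
        Set.range (pullback.snd _ _ : X ⟶ V).appTop) := fun c =>
    exists_finset_mem _ _ ((closure_eq_top (uS ≫ t) (vS ≫ t) (fun a b => terminal.hom_ext a b)
      (IsPullback.of_hasPullback _ _)).ge (Subring.mem_top c))
  choose F hF using hgen
  let G : Finset Γ(U, ⊤) := s.biUnion F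
  let φ : ULift.{u} (Fin G.card) → Γ(U, ⊤) := fun i => (G.equivFin.symm i.down).1
  refine ⟨G.card, φ, fun T tV tA e he₁ he₂ => ?_⟩
  let M : CommRingCat.{u} := CommRingCat.of (MvPolynomial (ULift.{u} (Fin G.card)) Γ(V, ⊤))
  let ev : M ⟶ Γ(X, ⊤) := CommRingCat.ofHom (eval₂Hom (pullback.snd _ _ : X ⟶ V).appTop.hom
    fun i => (pullback.fst _ _ : X ⟶ U).appTop (φ i))
  let u' : X ⟶ Spec M := X.toSpecΓ ≫ Spec.map ev
  let v : Spec M ⟶ V := Spec.map (CommRingCat.ofHom C) ≫ V.isoSpec.inv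
  have huv : u' ≫ v = pullback.snd _ _ := by
    rw [← Category.assoc, Iso.comp_inv_eq, Scheme.isoSpec_hom, Scheme.toSpecΓ_naturality,
      Category.assoc, ← Spec.map_comp]
    refine congrArg (fun f => X.toSpecΓ ≫ Spec.map f) (CommRingCat.hom_ext (RingHom.ext fun x => ?_))
    exact eval₂_C _ _ x
  have himm : IsImmersion (h ≫ u') := hs (Spec M) inferInstance u' v huv fun c hc => by
    have hsub : Subring.closure ((pullback.fst _ _ : X ⟶ U).appTop '' (F c : Set Γ(U, ⊤)) ∪
        Set.range (pullback.snd _ _ : X ⟶ V).appTop) ≤ ev.hom.range := by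
      refine Subring.closure_le.2 (Set.union_subset ?_ ?_)
      · rintro _ ⟨a, ha, rfl⟩
        refine ⟨MvPolynomial.X ⟨G.equivFin ⟨a, Finset.mem_biUnion.2 ⟨c, hc, ha⟩⟩⟩, ?_⟩
        show eval₂ _ _ (MvPolynomial.X _) = _
        rw [eval₂_X]
        simp only [φ, Equiv.symm_apply_apply]
      · rintro _ ⟨b, rfl⟩
        exact ⟨C b, eval₂_C _ _ b⟩
    obtain ⟨z, hz⟩ := hsub (hF c)
    refine ⟨(Scheme.ΓSpecIso M).inv z, ?_⟩
    have h1 : u'.appTop = (Scheme.ΓSpecIso M).hom ≫ ev := by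
      rw [Scheme.Hom.comp_appTop, Scheme.toSpecΓ_appTop, Scheme.ΓSpecIso_naturality]
    rw [h1]
    show ev ((Scheme.ΓSpecIso M).hom ((Scheme.ΓSpecIso M).inv z)) = c
    rw [Iso.inv_hom_id_apply]
    exact hz
  let evT : M ⟶ Γ(T, ⊤) := CommRingCat.ofHom (eval₂Hom tV.appTop.hom
    fun i => tA.appTop (AffineSpace.coord S i))
  have heq : e ≫ T.toSpecΓ ≫ Spec.map evT = h ≫ u' := by
    rw [Scheme.toSpecΓ_naturality_assoc, Scheme.toSpecΓ_naturality_assoc, ← Spec.map_comp,
      ← Spec.map_comp]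
    refine congrArg (fun f => P.toSpecΓ ≫ Spec.map f)
      (CommRingCat.hom_ext (MvPolynomial.ringHom_ext (fun b => ?_) fun i => ?_))
    · show e.appTop (eval₂ _ _ (C b)) = h.appTop (eval₂ _ _ (C b))
      rw [eval₂_C, eval₂_C]
      show (tV.appTop ≫ e.appTop) b = ((pullback.snd _ _ : X ⟶ V).appTop ≫ h.appTop) b
      rw [← Scheme.Hom.comp_appTop, ← Scheme.Hom.comp_appTop, he₁, hh2]
    · show e.appTop (eval₂ _ _ (MvPolynomial.X i)) = h.appTop (eval₂ _ _ (MvPolynomial.X i))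
      rw [eval₂_X, eval₂_X]
      show (tA.appTop ≫ e.appTop) _ = ((pullback.fst _ _ : X ⟶ U).appTop ≫ h.appTop) _
      rw [← Scheme.Hom.comp_appTop, ← Scheme.Hom.comp_appTop, he₂, hh1, Scheme.Hom.comp_appTop]
      exact congrArg p.appTop (AffineSpace.homOfVector_appTop_coord uS φ i)
  haveI : IsImmersion (e ≫ T.toSpecΓ ≫ Spec.map evT) := heq ▸ himm
  exact IsImmersion.of_comp e (T.toSpecΓ ≫ Spec.map evT)

end Groth.Agent.H8.AffineEmb.Gen
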