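import Groth.Agent.H8.AffineEmb.Gen
import Groth.Agent.Lib.AlgSpMor.RepDescent
import Groth.Agent.Lib.AlgSpMor.QC
import Groth.Agent.Lib.AlgSpMor.LocP
import Groth.Agent.Lib.AlgSpace.OpenSubExists
import Groth.Agent.Lib.AlgSpace.DiagProp

/-! # An affine scheme locally of finite type over a locally separated space embeds in a relative
affine space -/

set_option autoImplicit false
set_option linter.style.haveILetI false
set_option backward.isDefEq.respectTransparency false
set_option backward.isDefEq.respectTransparency.types false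

universe u

open CategoryTheory CategoryTheory.Limits AlgebraicGeometry
open AlgSp (Sp yon RepWith IsAlgSpace Points)
open Groth.Agent.Lib Groth.Agent.Lib.AlgSpace

namespace Groth.Agent.H8.AffineEmb.Main

variable {S : Scheme.{u}}

/-- Finitely many affine opens of an atlas cover a quasi-compact set of points. -/
theorem exists_affine_etale_cover {X : Sp S} (hX : IsAlgSpace X) {K : Set (Points X)}
    (hK : IsCompact K) :
    ∃ (V : Over S) (b : (yon S).obj V ⟶ X), IsAffine V.left ∧ RepWith @Etale b ∧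
      K ⊆ Set.range (Points.ofPt b) := by
  obtain ⟨W, p, he, hs⟩ := hX.atlas
  have hcov : ∀ x : Points X, ∃ O : W.left.affineOpens, x ∈ Points.ofPt p '' (O.1 : Set ↥W.left) := by
    intro x
    obtain ⟨v, rfl⟩ := surjective_ofPt hs x
    obtain ⟨O, hO, hv, -⟩ := exists_isAffineOpen_mem_and_subset (U := ⊤) (Set.mem_univ v)
    exact ⟨⟨O, hO⟩, v, hv, rfl⟩
  obtain ⟨s, hs'⟩ := hK.elim_finite_subcover
    (fun O : W.left.affineOpens ↦ Points.ofPt p '' (O.1 : Set ↥W.left))
    (fun O ↦ isOpenMap_ofPt he _ O.1.2) (fun x _ ↦ Set.mem_iUnion.2 (hcov x))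
  let O' : ↥s → W.left.Opens := fun x ↦ x.1.1
  have : ∀ i, IsAffine (O' i).toScheme := fun i ↦ i.1.2
  refine ⟨opensSigma O', (yon S).map (opensSigmaMap O') ≫ p,
    inferInstanceAs (IsAffine (∐ fun i ↦ (O' i).toScheme)),
    repWith_comp (repWith_etale_yon_map (etale_opensSigmaMap O')) he, fun x hx ↦ ?_⟩
  obtain ⟨i, hi, v, hv, rfl⟩ := Set.mem_iUnion₂.1 (hs' hx)
  exact ⟨Sigma.ι (fun i ↦ (O' i).toScheme) ⟨i, hi⟩ ⟨v, hv⟩, by
    rw [ofPt_yon_map_comp, opensSigmaMap_apply]; rfl⟩

/-- Etale maps factoring through a monomorphism are etale. -/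
theorem repWith_of_comp_mono {P : MorphismProperty Scheme.{u}} [P.IsStableUnderBaseChange]
    {F G H : Sp S} {b : F ⟶ G} {j : G ⟶ H} [Mono j] (h : RepWith P (b ≫ j)) : RepWith P b :=
  repWith_baseChange (fst := 𝟙 F) (snd := b) (f := b ≫ j) (g := j)
    (isPullback_of_yon (by simp)
      (fun U p q h1 _ => by simpa using h1)
      (fun U p q w => ⟨p, Category.comp_id _, by rwa [← cancel_mono j, Category.assoc]⟩)) h

/-- A map surjective on points from a scheme is surjective. -/
theorem repWith_surjective {X : Sp S} {V : Over S} {b : (yon S).obj V ⟶ X}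
    (hr : AlgSp.Representable b) (h : ∀ x, ∃ v, Points.ofPt b v = x) : RepWith @Surjective b := by
  refine repWith_of_exists fun T ξ ↦ ⟨hr.pullback ξ, hr.snd ξ, hr.fst ξ, hr.isPullback ξ, ⟨fun t ↦ ?_⟩⟩
  have ht : t ∈ Points.ofPt ξ ⁻¹' (Points.map b '' Set.univ) := by
    obtain ⟨v, hv⟩ := h (Points.ofPt ξ t)
    exact ⟨Points.ofScheme V v, trivial, by rw [← Points.ofPt_eq_map_ofScheme]; exact hv⟩
  rw [preimage_image_map (hr.isPullback ξ)] at ht
  obtain ⟨w, -, hw⟩ := ht
  exact ⟨w, hw⟩

/-- Embedding an affine scheme, given an etale chart around its image whose fibre product with it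
is immersed in the product over the base. -/
theorem exists_immersion_of_chart [QuasiSeparatedSpace ↥S] {X : Sp S} (hX : IsAlgSpace X)
    (hqs : AlgSp.IsQuasiSeparatedSp X) {U V : Over S} [IsAffine U.left] [IsAffine V.left]
    (f : (yon S).obj U ⟶ X) (hf : AlgSp.LocP @LocallyOfFiniteType f) (b : (yon S).obj V ⟶ X)
    (hb : RepWith @Etale b) (hK : Set.range (Points.ofPt f) ⊆ Set.range (Points.ofPt b))
    (hpair : ∀ (R : Over S) (p : R ⟶ U) (q : R ⟶ V),
      IsPullback ((yon S).map p) ((yon S).map q) f b → IsImmersion (Limits.prod.lift p q).left) :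
    ∃ (n : ℕ) (i : (yon S).obj U ⟶ X ⨯ (yon S).obj (Over.mk (𝔸(ULift.{u} (Fin n); S) ↘ S))),
      i ≫ prod.fst = f ∧ RepWith @IsImmersion i := by
  have hopen : IsOpen (Set.range (Points.ofPt b)) := (isOpenMap_ofPt hb).isOpen_range
  obtain ⟨X', j, hX', hj, hr⟩ := exists_open_subspace hX hopen
  haveI : Mono j := mono_of_repWith (P := @IsOpenImmersion)
    (fun _ _ g (_ : IsOpenImmersion g) ↦ (inferInstance : Mono g)) hj
  obtain ⟨f', hf'⟩ := exists_lift_yon_of_range_subset hj f (hr.symm ▸ hK)
  obtain ⟨b', hb'⟩ := exists_lift_yon_of_range_subset hj b hr.ge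
  have hbe : RepWith @Etale b' := repWith_of_comp_mono (hb'.symm ▸ hb)
  have hbs : RepWith @Surjective b' := repWith_surjective hbe.rep fun x ↦ by
    obtain ⟨v, hv⟩ : Points.map j x ∈ Set.range (Points.ofPt b) := hr ▸ Set.mem_range_self x
    refine ⟨v, (isOpenEmbedding_map hj).injective ?_⟩
    rw [Points.map_ofPt, hb', hv]
  obtain ⟨R, p, q, sq'⟩ := exists_isPullback_yon hX'.diag f' b'
  have sq : IsPullback ((yon S).map p) ((yon S).map q) f b := by
    refine isPullback_of_yon (by rw [← hf', ← hb', ← Category.assoc, sq'.w, Category.assoc])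
      (fun T x y h1 h2 => sq'.hom_ext h1 h2) fun T x y w => ?_
    have w' : x ≫ f' = y ≫ b' := by
      rw [← cancel_mono j, Category.assoc, Category.assoc, hf', hb', w]
    exact ⟨sq'.lift x y w', sq'.lift_fst _ _ _, sq'.lift_snd _ _ _⟩
  have himm : IsImmersion (Limits.prod.lift p q).left := hpair R p q sq
  have hqc : QuasiCompact (Limits.prod.lift p q).left :=
    repWith_property hqs (isPullback_diag_yonProd sq)
  let π := (Over.prodLeftIsoPullback U V).hom
  haveI : QuasiCompact U.hom := quasiCompact_of_compactSpace U.hom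
  haveI : CompactSpace ↥(pullback U.hom V.hom) :=
    QuasiCompact.compactSpace_of_compactSpace (pullback.snd U.hom V.hom)
  have hw : p.left ≫ U.hom = q.left ≫ V.hom := by simp
  have hπ : (Limits.prod.lift p q).left ≫ π = pullback.lift p.left q.left hw := by
    apply pullback.hom_ext
    · rw [Category.assoc, Over.prodLeftIsoPullback_hom_fst, ← Over.comp_left, prod.lift_fst,
        pullback.lift_fst]
    · rw [Category.assoc, Over.prodLeftIsoPullback_hom_snd, ← Over.comp_left, prod.lift_snd,
        pullback.lift_snd]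
  haveI : IsImmersion (pullback.lift p.left q.left hw : R.left ⟶ pullback U.hom V.hom) :=
    hπ ▸ inferInstance
  haveI : QuasiCompact (pullback.lift p.left q.left hw : R.left ⟶ pullback U.hom V.hom) :=
    hπ ▸ inferInstance
  haveI : CompactSpace ↥R.left := QuasiCompact.compactSpace_of_compactSpace
    (pullback.lift p.left q.left hw : R.left ⟶ pullback U.hom V.hom)
  haveI : LocallyOfFiniteType q.left := repWith_property
    (AlgSpMor.LocP.repWith_of_locP SourceDescent.Scheme.locallyOfFiniteType hX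
      (representable_from_yon hX.diag f) hf) sq
  obtain ⟨n, φ, hφ⟩ := Gen.exists_functions U.hom V.hom p.left q.left hw
  let A : Over S := Over.mk (𝔸(ULift.{u} (Fin n); S) ↘ S)
  let a : U ⟶ A := Over.homMk (AffineSpace.homOfVector U.hom φ)
    (AffineSpace.homOfVector_over U.hom φ)
  let i' : (yon S).obj U ⟶ X' ⨯ (yon S).obj A := Limits.prod.lift f' ((yon S).map a)
  refine ⟨n, i' ≫ Limits.prod.map j (𝟙 _), ?_, ?_⟩
  · rw [Category.assoc, prod.map_fst, prod.lift_fst_assoc, hf']
  refine repWith_comp ?_ (repWith_mono (repWith_baseChange (isPullback_prodMap_id j _) hj)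
    fun _ _ g (_ : IsOpenImmersion g) ↦ (inferInstance : IsImmersion g))
  have hY : IsAlgSpace (X' ⨯ (yon S).obj A) := isAlgSpace_prod hX' (IsAlgSpace.yon_obj A)
  let e : (yon S).obj (V ⨯ A) ⟶ X' ⨯ (yon S).obj A :=
    (yonProdIso V A).hom ≫ Limits.prod.map b' (𝟙 _)
  have he : RepWith @Etale e :=
    (repWith_iso_comp_iff _ _ _).2 (repWith_baseChange (isPullback_prodMap_id b' _) hbe)
  have hes : RepWith @Surjective e :=
    (repWith_iso_comp_iff _ _ _).2 (repWith_baseChange (isPullback_prodMap_id b' _) hbs)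
  have ye : ∀ {T : Over S} (y : T ⟶ V ⨯ A), (yon S).map y ≫ e =
      Limits.prod.lift ((yon S).map (y ≫ prod.fst) ≫ b') ((yon S).map (y ≫ prod.snd)) := fun y => by
    apply Limits.prod.hom_ext
    · simp [e, Functor.map_comp, yonProdIso_hom_fst_assoc]
    · simp [e, Functor.map_comp, yonProdIso_hom_snd_assoc]
  let g : R ⟶ V ⨯ A := Limits.prod.lift q (p ≫ a)
  have sqi : IsPullback ((yon S).map p) ((yon S).map g) i' e := by
    refine isPullback_of_yon ?_ (fun T x y h1 h2 => ?_) fun T x y w => ?_
    · rw [ye]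
      apply Limits.prod.hom_ext
      · simp [i', g, sq'.w]
      · simp [i', g]
    · refine sq'.hom_ext h1 ?_
      have h3 := congrArg (· ≫ (yon S).map Limits.prod.fst) h2
      simp only [Category.assoc, ← Functor.map_comp, g, prod.lift_fst] at h3
      exact h3
    · obtain ⟨x, rfl⟩ := (yon S).map_surjective x
      obtain ⟨y, rfl⟩ := (yon S).map_surjective y
      rw [ye] at w
      have w1 := congrArg (· ≫ Limits.prod.fst) w
      have w2 := congrArg (· ≫ Limits.prod.snd) w
      simp only [i', Category.assoc, prod.lift_fst, prod.lift_snd] at w1 w2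
      rw [← Functor.map_comp] at w2
      have w2' := (yon S).map_injective w2
      obtain ⟨l, hl⟩ := (yon S).map_surjective (sq'.lift ((yon S).map x) ((yon S).map (y ≫ prod.fst)) w1)
      have l1 : l ≫ p = x := (yon S).map_injective (by rw [Functor.map_comp, hl, sq'.lift_fst])
      have l2 : l ≫ q = y ≫ Limits.prod.fst :=
        (yon S).map_injective (by rw [Functor.map_comp, hl, sq'.lift_snd])
      refine ⟨(yon S).map l, by rw [← Functor.map_comp, l1], ?_⟩
      rw [← Functor.map_comp]
      refine congrArg _ (Limits.prod.hom_ext ?_ ?_)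
      · simpa [g] using l2
      · simp [g, reassoc_of% l1, w2']
  refine AlgSpMor.RepDescent.repWith_immersion_of_cover hY.diag he hes sqi ?_
  refine (AlgSp.repWith_yon_map_iff _ g).2 ?_
  refine hφ _ (Limits.prod.fst : V ⨯ A ⟶ V).left (Limits.prod.snd : V ⨯ A ⟶ A).left g.left ?_ ?_
  · rw [← Over.comp_left, prod.lift_fst]
  · rw [← Over.comp_left, prod.lift_snd]
    rfl

/-- Embedding an affine scheme into a relative affine space over a locally separated space. -/
theorem exists_immersion [QuasiSeparatedSpace ↥S] {X : Sp S} (hX : IsAlgSpace X)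
    (hqs : AlgSp.IsQuasiSeparatedSp X) (hls : AlgSp.IsLocallySeparatedSp X) {U : Over S}
    [IsAffine U.left] (f : (yon S).obj U ⟶ X) (hf : AlgSp.LocP @LocallyOfFiniteType f) :
    ∃ (n : ℕ) (i : (yon S).obj U ⟶ X ⨯ (yon S).obj (Over.mk (𝔸(ULift.{u} (Fin n); S) ↘ S))),
      i ≫ prod.fst = f ∧ RepWith @IsImmersion i := by
  obtain ⟨V, b, hV, hb, hK⟩ := exists_affine_etale_cover hX
    (isCompact_range (Points.continuous_ofPt f) : IsCompact (Set.range (Points.ofPt f)))
  haveI := hV
  exact exists_immersion_of_chart hX hqs f hf b hb hK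
    fun R p q sq => repWith_property hls (isPullback_diag_yonProd sq)

end Groth.Agent.H8.AffineEmb.Main
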